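/-
Lines of abstract root subgroups: the special point of a line with respect to a rank one partner, double
transitivity on lines (helper735, section 63).
-/
import Cfsg.Agent.H733.RootBasics
import Cfsg.Agent.H733.Chain
set_option linter.all false

-- part: H735/Triangle
section
set_option autoImplicit false
open Cfsg Cfsg.Agent.H731 Cfsg.Agent.H733

namespace Cfsg.Agent.H735

variable {G : Type*} [Group G] {A B C : Subgroup G}

theorem partner_right (h : IsRankOnePair A B) {a : G} (ha : a ∈ A) (ha1 : a ≠ 1) :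
    ∃ b ∈ B, b ≠ 1 ∧ conjBy A b = conjBy B a := by
  obtain ⟨b, hb, hb1, hab⟩ := h.cond_left a⁻¹ (A.inv_mem ha) (inv_ne_one.2 ha1)
  exact ⟨b⁻¹, B.inv_mem hb, inv_ne_one.2 hb1, by rw [hab, inv_inv]⟩

theorem partner_left (h : IsRankOnePair A B) {b : G} (hb : b ∈ B) (hb1 : b ≠ 1) :
    ∃ a ∈ A, a ≠ 1 ∧ conjBy A b = conjBy B a := by
  obtain ⟨a, ha, ha1, hab⟩ := h.cond_right b⁻¹ (B.inv_mem hb) (inv_ne_one.2 hb1)
  exact ⟨a⁻¹, A.inv_mem ha, inv_ne_one.2 ha1, by rw [hab, inv_inv]⟩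

/-- Criterion for specialness. -/
theorem special_of_inv (h : IsRankOnePair A B)
    (hinv : ∀ a ∈ A, a ≠ 1 → ∀ b ∈ B, b ≠ 1 → conjBy A b = conjBy B a → conjBy A b⁻¹ = conjBy B a⁻¹) :
    IsSpecialRankOnePair A B := by
  refine ⟨h, fun a ha ha1 b hb hb1 hab => ?_⟩
  have hab' : conjBy A b = conjBy B a := by
    have := hinv a⁻¹ (A.inv_mem ha) (inv_ne_one.2 ha1) b⁻¹ (B.inv_mem hb) (inv_ne_one.2 hb1) hab
    rwa [inv_inv, inv_inv] at this
  have hx : b⁻¹ * a * b ∈ conjBy B a⁻¹ := by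
    rw [← hab]
    have := conj_mem_conjBy ha b⁻¹
    rwa [inv_inv] at this
  rw [mem_conjBy, inv_inv] at hx
  -- hx : a * (b⁻¹ * a * b) * a⁻¹ ∈ B
  set b1 := a * (b⁻¹ * a * b) * a⁻¹ with hb1def
  have e1 : conjBy A (b⁻¹ * a * b)⁻¹ = B := by
    have e : (b⁻¹ * a * b)⁻¹ = b⁻¹ * a⁻¹ * b := by simp [mul_assoc]
    rw [e, ← conjBy_conjBy, hab', conjBy_conjBy, inv_mul_cancel_right, conjBy_of_mem (B.inv_mem hb)]
  have e2 : (b⁻¹ * a * b)⁻¹ = a⁻¹ * b1⁻¹ * a := by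
    rw [hb1def]; simp [mul_assoc]
  rw [e2, ← conjBy_conjBy, conjBy_of_mem ha, ← conjBy_conjBy, conjBy_inv_eq_iff, ← hab'] at e1
  have e3 := rankOne_conj_inj (RankOnePair_symm h) (B.inv_mem hx) hb e1
  have e4 : b1 = b⁻¹ := by rw [← e3, inv_inv]
  rw [hb1def] at e4
  have e5 : b⁻¹ * a * b = a⁻¹ * (a * (b⁻¹ * a * b) * a⁻¹) * a := by simp [mul_assoc]
  rw [e5, e4]

/-- **First triangle lemma**: `C = A^v` with `v` centralizing `B`. -/
theorem triangle_exists_conj (hA : ⁅A, A⁆ = ⊥) (hB : ⁅B, B⁆ = ⊥) (hAB : IsRankOnePair A B)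
    (hCB : IsRankOnePair C B) (hAC : ⁅A, C⁆ = ⊥) : ∃ v : G, (∀ b ∈ B, v * b = b * v) ∧ conjBy A v = C := by
  have cA := commutator_eq_bot_iff_forall.1 hA
  have cB := commutator_eq_bot_iff_forall.1 hB
  have cAC := commutator_eq_bot_iff_forall.1 hAC
  obtain ⟨b, hb, hb1⟩ := rankOne_exists_right hAB
  obtain ⟨a, ha, ha1, hab⟩ := partner_left hAB hb hb1
  obtain ⟨c, hc, hc1, hcb⟩ := partner_left hCB hb hb1
  have hg : ∀ x ∈ A, (a⁻¹ * c) * x = x * (a⁻¹ * c) := by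
    intro x hx
    rw [mul_assoc, ← cAC x hx c hc, ← mul_assoc, cA _ (A.inv_mem ha) x hx, mul_assoc]
  have hgA : conjBy A (a⁻¹ * c)⁻¹ = A := by
    rw [conjBy_inv_eq_iff, conjBy_of_commute hg]
  -- `B` commutes with its conjugate under `a⁻¹ c`
  have hBB : ⁅B, conjBy B (a⁻¹ * c)⁆ = ⊥ := by
    have h1 : ⁅conjBy A b, conjBy C b⁆ = ⊥ := commutator_conjBy_eq_bot_iff.2 hAC
    rw [hab, hcb] at h1
    have h2 : conjBy B c = conjBy (conjBy B (a⁻¹ * c)) a := by rw [conjBy_conjBy, mul_inv_cancel_left]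
    rw [h2] at h1
    exact commutator_conjBy_eq_bot_iff.1 h1
  have cBB := commutator_eq_bot_iff_forall.1 hBB
  refine ⟨b⁻¹ * ((a⁻¹ * c) * b * (a⁻¹ * c)⁻¹), ?_, ?_⟩
  · intro x hx
    have h1 := cBB x hx _ (conj_mem_conjBy hb (a⁻¹ * c))
    rw [mul_assoc, ← h1, ← mul_assoc, cB _ (B.inv_mem hb) x hx, mul_assoc]
  · rw [← conjBy_conjBy, ← conjBy_conjBy _ ((a⁻¹ * c) * b), hgA, ← conjBy_conjBy, hab,
      conjBy_conjBy B (a⁻¹ * c)]
    have e : a⁻¹ * c * a = c := by rw [mul_assoc, ← cAC a ha c hc, inv_mul_cancel_left]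
    rw [e, ← hcb, conjBy_conjBy, inv_mul_cancel, conjBy_one]

/-- Transport of partners by an element centralizing `B`. -/
theorem partner_transport {v : G} (hv : ∀ b ∈ B, v * b = b * v) {a b : G} (hb : b ∈ B)
    (hab : conjBy A b = conjBy B a) : conjBy (conjBy A v) b = conjBy B (v * a * v⁻¹) := by
  have h1 : conjBy B v⁻¹ = B := by rw [conjBy_inv_eq_iff, conjBy_of_commute hv]
  rw [conjBy_conjBy, ← hv b hb, ← conjBy_conjBy, hab, ← conjBy_conjBy B (v * a), h1, ← conjBy_conjBy]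

section setting

variable (hA : ⁅A, A⁆ = ⊥) (hB : ⁅B, B⁆ = ⊥) (hAB : IsRankOnePair A B) {v : G} (hv : ∀ b ∈ B, v * b = b * v)
  (hAv : ⁅A, conjBy A v⁆ = ⊥) (hne : conjBy A v ≠ A)

include hAv in
theorem conj_comm {a x : G} (ha : a ∈ A) (hx : x ∈ A) : (v * a * v⁻¹) * x = x * (v * a * v⁻¹) :=
  ((commutator_eq_bot_iff_forall.1 hAv) x hx _ (conj_mem_conjBy ha v)).symm

include hA hAv in
/-- `u(a) = v a v⁻¹ a⁻¹` commutes with `A`. -/
theorem u_comm {a x : G} (ha : a ∈ A) (hx : x ∈ A) : (v * a * v⁻¹ * a⁻¹) * x = x * (v * a * v⁻¹ * a⁻¹) := by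
  rw [mul_assoc, (commutator_eq_bot_iff_forall.1 hA) _ (A.inv_mem ha) x hx, ← mul_assoc, conj_comm hAv ha hx,
    mul_assoc]

include hAB hv hAv in
/-- `B` commutes with its conjugate under `u(a)`. -/
theorem u_conj_comm {a : G} (ha : a ∈ A) (hB : ⁅B, B⁆ = ⊥) : ⁅B, conjBy B (v * a * v⁻¹ * a⁻¹)⁆ = ⊥ := by
  by_cases ha1 : a = 1
  · subst ha1
    simpa [conjBy_one] using hB
  obtain ⟨b, hb, hb1, hab⟩ := partner_right hAB ha ha1
  have h1 : ⁅conjBy A b, conjBy (conjBy A v) b⁆ = ⊥ := commutator_conjBy_eq_bot_iff.2 hAv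
  rw [hab, partner_transport hv hb hab] at h1
  have h2 : conjBy B (v * a * v⁻¹) = conjBy (conjBy B (v * a * v⁻¹ * a⁻¹)) a := by
    rw [conjBy_conjBy, ← mul_assoc, ← conj_comm hAv ha ha, mul_inv_cancel_right]
  rw [h2] at h1
  exact commutator_conjBy_eq_bot_iff.1 h1

include hAB hv hAv hne in
/-- `B` is different from its conjugate under `u(a)`, `a ≠ 1`. -/
theorem u_conj_ne {a : G} (ha : a ∈ A) (ha1 : a ≠ 1) : conjBy B (v * a * v⁻¹ * a⁻¹) ≠ B := by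
  intro h
  obtain ⟨b, hb, hb1, hab⟩ := partner_right hAB ha ha1
  apply hne
  rw [← conjBy_inj (g := b), partner_transport hv hb hab, hab, ← conjBy_inj (g := a⁻¹), conjBy_conjBy,
    conjBy_conjBy, inv_mul_cancel, conjBy_one]
  have e : a⁻¹ * (v * a * v⁻¹) = v * a * v⁻¹ * a⁻¹ := (conj_comm hAv ha (A.inv_mem ha)).symm
  rw [e]
  exact h

/-- The element `w(b) = b⁻¹ (u b u⁻¹)`. -/
def ww (u b : G) : G := b⁻¹ * (u * b * u⁻¹)

include hA hv hAv in
/-- `A^{w(b)} = A^v` for partners `a`, `b` and `u = u(a)`. -/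
theorem conjBy_ww {a b : G} (ha : a ∈ A) (hb : b ∈ B) (hab : conjBy A b = conjBy B a) :
    conjBy A (ww (v * a * v⁻¹ * a⁻¹) b) = conjBy A v := by
  set u := v * a * v⁻¹ * a⁻¹ with hu
  have h1 : conjBy A u⁻¹ = A := by
    rw [conjBy_inv_eq_iff, conjBy_of_commute fun x hx => u_comm hA hAv ha hx]
  have h2 : u * a = v * a * v⁻¹ := by rw [hu, inv_mul_cancel_right]
  unfold ww
  rw [← conjBy_conjBy, ← conjBy_conjBy A (u * b), h1, ← conjBy_conjBy A u, hab, conjBy_conjBy B u, h2,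
    ← partner_transport hv hb hab, conjBy_conjBy (conjBy A v), inv_mul_cancel, conjBy_one]

include hB hAB hv hAv in
/-- `w` is multiplicative. -/
theorem ww_mul {a b b' : G} (ha : a ∈ A) (hb : b ∈ B) (hb' : b' ∈ B) :
    ww (v * a * v⁻¹ * a⁻¹) (b * b') = ww (v * a * v⁻¹ * a⁻¹) b * ww (v * a * v⁻¹ * a⁻¹) b' := by
  have h1 := commutator_eq_bot_iff_forall.1 (u_conj_comm hAB hv hAv ha hB)
  set u := v * a * v⁻¹ * a⁻¹ with hu
  have h2 := h1 _ (B.inv_mem hb') _ (conj_mem_conjBy hb u)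
  unfold ww
  calc (b * b')⁻¹ * (u * (b * b') * u⁻¹) = b'⁻¹ * b⁻¹ * (u * b * u⁻¹) * (u * b' * u⁻¹) := by simp [mul_assoc]
    _ = b⁻¹ * b'⁻¹ * (u * b * u⁻¹) * (u * b' * u⁻¹) := by
      rw [(commutator_eq_bot_iff_forall.1 hB) _ (B.inv_mem hb') _ (B.inv_mem hb)]
    _ = b⁻¹ * (b'⁻¹ * (u * b * u⁻¹)) * (u * b' * u⁻¹) := by simp only [mul_assoc]
    _ = b⁻¹ * ((u * b * u⁻¹) * b'⁻¹) * (u * b' * u⁻¹) := by rw [h2]
    _ = b⁻¹ * (u * b * u⁻¹) * (b'⁻¹ * (u * b' * u⁻¹)) := by simp only [mul_assoc]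

include hB hAB hv hAv in
/-- `w(b)` centralizes `B`. -/
theorem ww_comm {a b x : G} (ha : a ∈ A) (hb : b ∈ B) (hx : x ∈ B) :
    ww (v * a * v⁻¹ * a⁻¹) b * x = x * ww (v * a * v⁻¹ * a⁻¹) b := by
  have h1 := (commutator_eq_bot_iff_forall.1 (u_conj_comm hAB hv hAv ha hB)) x hx _
    (conj_mem_conjBy hb (v * a * v⁻¹ * a⁻¹))
  unfold ww
  rw [mul_assoc, ← h1, ← mul_assoc, (commutator_eq_bot_iff_forall.1 hB) _ (B.inv_mem hb) x hx, mul_assoc]

include hA hAB hv hAv hne in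
/-- `w(b)` does not normalize `A`, `b ≠ 1`. -/
theorem conjBy_ww_ne {a b : G} (ha : a ∈ A) (ha1 : a ≠ 1) (hb : b ∈ B) (hb1 : b ≠ 1) :
    conjBy A (ww (v * a * v⁻¹ * a⁻¹) b) ≠ A := by
  intro h
  have h1 : conjBy A (v * a * v⁻¹ * a⁻¹)⁻¹ = A := by
    rw [conjBy_inv_eq_iff, conjBy_of_commute fun x hx => u_comm hA hAv ha hx]
  obtain ⟨a', ha', ha1', hab'⟩ := partner_left hAB hb hb1
  apply u_conj_ne hAB hv hAv hne ha ha1
  have h2 := u_comm hA hAv ha ha'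
  set u := v * a * v⁻¹ * a⁻¹ with hu
  unfold ww at h
  rw [← conjBy_conjBy, ← conjBy_conjBy A (u * b), h1, conjBy_inv_eq_iff, ← conjBy_conjBy A u, hab',
    conjBy_conjBy, h2, ← conjBy_conjBy, conjBy_inj] at h
  exact h

include hA hB hAB hv hAv hne in
/-- **Second triangle lemma**: the pair `(A, B)` is special. -/
theorem special_of_conj : IsSpecialRankOnePair A B := by
  refine special_of_inv hAB fun a ha ha1 b hb hb1 hab => ?_
  obtain ⟨b', hb', hb1', hab'⟩ := partner_right hAB (A.inv_mem ha) (inv_ne_one.2 ha1)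
  have huA : conjBy (conjBy A v) (v * a * v⁻¹ * a⁻¹) = conjBy A v := by
    have e1 : conjBy (conjBy A v) a⁻¹ = conjBy A v := by
      refine conjBy_of_commute ?_
      rintro _ ⟨x, hx, rfl⟩
      exact (conj_comm hAv hx (A.inv_mem ha)).symm
    rw [← conjBy_conjBy (conjBy A v) (v * a * v⁻¹), e1, conjBy_of_mem (conj_mem_conjBy ha v)]
  have hu' : v * a⁻¹ * v⁻¹ * a⁻¹⁻¹ = (v * a * v⁻¹ * a⁻¹)⁻¹ := by
    have := conj_comm hAv (A.inv_mem ha) ha
    rw [inv_inv, this]; simp [mul_assoc]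
  have h1 := conjBy_ww hA hv hAv ha hb hab
  have h2 := conjBy_ww hA hv hAv (A.inv_mem ha) hb' hab'
  rw [hu'] at h2
  set u := v * a * v⁻¹ * a⁻¹ with hu
  have huA' : conjBy A u = A := conjBy_of_commute fun x hx => u_comm hA hAv ha hx
  -- `A^{w(b')⁻¹} = A^v`
  have h3 : conjBy A (ww u b')⁻¹ = conjBy A v := by
    have e2 : (ww u b')⁻¹ = u * ww u⁻¹ b' * u⁻¹⁻¹⁻¹ := by unfold ww; simp [mul_assoc]
    rw [e2, ← conjBy_conjBy, inv_inv, (conjBy_inv_eq_iff).2 huA'.symm, ← conjBy_conjBy A u, h2, huA]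
  by_contra hcon
  have hbb : b' * b ≠ 1 := by
    intro h4
    apply hcon
    rw [← hab', eq_inv_of_mul_eq_one_left h4]
  apply conjBy_ww_ne hA hAB hv hAv hne ha ha1 (B.mul_mem hb' hb) hbb
  rw [ww_mul hB hAB hv hAv ha hb' hb, ← conjBy_conjBy, ← hu, h1, ← h3, conjBy_conjBy, mul_inv_cancel, conjBy_one]

end setting

/-! ### A relation in triangles with elements of order at least four -/

/-- An element centralizing `B` and normalizing `A` centralizes `A`. -/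
theorem centralizes_of_fix (hAB : IsRankOnePair A B) {y : G} (hy : ∀ b ∈ B, y * b = b * y) (hyA : conjBy A y = A)
    {a : G} (ha : a ∈ A) : y * a * y⁻¹ = a := by
  by_cases ha1 : a = 1
  · subst ha1; simp
  obtain ⟨b, hb, hb1, hab⟩ := partner_right hAB ha ha1
  have h1 := partner_transport hy hb hab
  rw [hyA, hab] at h1
  have h2 : y * a * y⁻¹ ∈ A := by
    have := conj_mem_conjBy ha y
    rwa [hyA] at this
  exact (rankOne_conj_inj hAB ha h2 h1).symm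

section setting2

variable (hA : ⁅A, A⁆ = ⊥) (hB : ⁅B, B⁆ = ⊥) (hAB : IsRankOnePair A B) {v : G} (hv : ∀ b ∈ B, v * b = b * v)
  (hAv : ⁅A, conjBy A v⁆ = ⊥) (hne : conjBy A v ≠ A)

include hA hB hAB hv hAv in
/-- `A` commutes with its conjugate under `w(b)`. -/
theorem ww_conj_comm {a b : G} (ha : a ∈ A) (hb : b ∈ B) :
    ⁅A, conjBy A (ww (v * a * v⁻¹ * a⁻¹) b)⁆ = ⊥ := by
  by_cases hb1 : b = 1
  · subst hb1
    unfold ww
    simpa [conjBy_one] using hA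
  have h1 : conjBy A (v * a * v⁻¹ * a⁻¹)⁻¹ = A := by
    rw [conjBy_inv_eq_iff, conjBy_of_commute fun x hx => u_comm hA hAv ha hx]
  obtain ⟨a', ha', ha1', hab'⟩ := partner_left hAB hb hb1
  have h2 := u_comm hA hAv ha ha'
  have h3 := u_conj_comm hAB hv hAv ha hB
  set u := v * a * v⁻¹ * a⁻¹ with hu
  have e1 : conjBy A (ww u b) = conjBy (conjBy B u) (b⁻¹ * a') := by
    unfold ww
    rw [← conjBy_conjBy, ← conjBy_conjBy A (u * b), h1, ← conjBy_conjBy A u, hab', conjBy_conjBy B u, h2,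
      conjBy_conjBy, conjBy_conjBy, mul_assoc]
  have e2 : A = conjBy B (b⁻¹ * a') := by
    rw [← conjBy_conjBy, ← hab', conjBy_conjBy, inv_mul_cancel, conjBy_one]
  rw [e1]
  conv_lhs => rw [e2]
  exact commutator_conjBy_eq_bot_iff.2 h3

include hA hB hAB hv hAv in
theorem relation {a b : G} (ha : a ∈ A) (hb : b ∈ B) (hfix : ww (v * a * v⁻¹ * a⁻¹) b = v) :
    a = (v * a * v⁻¹) * (v * v * a * v⁻¹ * v⁻¹)⁻¹ * (v * v * v * a * v⁻¹ * v⁻¹ * v⁻¹) *
      (v * v * a * v⁻¹ * v⁻¹)⁻¹ * (v * a * v⁻¹) * (v * v * a * v⁻¹ * v⁻¹)⁻¹ * (v * a * v⁻¹) := by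
  have hu2 : v * (a * a) * v⁻¹ * (a * a)⁻¹ = (v * a * v⁻¹ * a⁻¹) * (v * a * v⁻¹ * a⁻¹) := by
    have := conj_comm hAv ha (A.inv_mem ha)
    calc v * (a * a) * v⁻¹ * (a * a)⁻¹ = (v * a * v⁻¹) * ((v * a * v⁻¹) * a⁻¹) * a⁻¹ := by simp [mul_assoc]
      _ = (v * a * v⁻¹) * (a⁻¹ * (v * a * v⁻¹)) * a⁻¹ := by rw [this]
      _ = (v * a * v⁻¹ * a⁻¹) * (v * a * v⁻¹ * a⁻¹) := by simp only [mul_assoc]
  have c1 := u_conj_comm hAB hv hAv ha hB
  have c2 := u_conj_comm hAB hv hAv (A.mul_mem ha ha) hB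
  rw [hu2] at c2
  set u := v * a * v⁻¹ * a⁻¹ with hu
  -- b₀, b₁, b₂ commute
  have d01 : Commute b (u * b * u⁻¹) := (commutator_eq_bot_iff_forall.1 c1) b hb _ (conj_mem_conjBy hb u)
  have d02 : Commute b (u * u * b * (u * u)⁻¹) :=
    (commutator_eq_bot_iff_forall.1 c2) b hb _ (conj_mem_conjBy hb (u * u))
  have d12 : Commute (u * b * u⁻¹) (u * u * b * (u * u)⁻¹) := by
    have h1 : u * (b * (u * b * u⁻¹)) * u⁻¹ = u * ((u * b * u⁻¹) * b) * u⁻¹ := by rw [d01.eq]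
    show (u * b * u⁻¹) * (u * u * b * (u * u)⁻¹) = (u * u * b * (u * u)⁻¹) * (u * b * u⁻¹)
    simpa [mul_assoc] using h1
  have hvb : v = b⁻¹ * (u * b * u⁻¹) := hfix.symm
  have hz : v * (v * u * v⁻¹ * u⁻¹) * v⁻¹ = v * u * v⁻¹ * u⁻¹ := by
    have h1 : v * u * v⁻¹ * u⁻¹ = v * (u * v * u⁻¹)⁻¹ := by simp [mul_assoc]
    have h2 : (u * v * u⁻¹) = (u * b * u⁻¹)⁻¹ * (u * u * b * (u * u)⁻¹) := by
      conv_lhs => rw [hvb]
      simp [mul_assoc]
    have h3 : Commute v (u * v * u⁻¹) := by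
      rw [h2, hvb]
      exact ((d01.inv_inv.mul_left (Commute.refl _).inv_right).mul_right (d02.inv_left.mul_left d12))
    rw [h1]
    have h4 : Commute v (v * (u * v * u⁻¹)⁻¹) := (Commute.refl v).mul_right h3.inv_right
    rw [h4.eq, mul_inv_cancel_right]
  -- in terms of `a`
  have hz2 : v * u * v⁻¹ * u⁻¹ = (v * v * a * v⁻¹ * v⁻¹) * (v * a * v⁻¹)⁻¹ * a * (v * a * v⁻¹)⁻¹ := by
    rw [hu]; simp [mul_assoc]
  rw [hz2] at hz
  have hz3 : v * ((v * v * a * v⁻¹ * v⁻¹) * (v * a * v⁻¹)⁻¹ * a * (v * a * v⁻¹)⁻¹) * v⁻¹ =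
      (v * v * v * a * v⁻¹ * v⁻¹ * v⁻¹) * (v * v * a * v⁻¹ * v⁻¹)⁻¹ * (v * a * v⁻¹) *
        (v * v * a * v⁻¹ * v⁻¹)⁻¹ := by simp [mul_assoc]
  rw [hz3] at hz
  set a1 := v * a * v⁻¹
  set a2 := v * v * a * v⁻¹ * v⁻¹
  set a3 := v * v * v * a * v⁻¹ * v⁻¹ * v⁻¹
  calc a = a1 * a2⁻¹ * (a2 * a1⁻¹ * a * a1⁻¹) * a1 := by simp [mul_assoc]
    _ = a1 * a2⁻¹ * (a3 * a2⁻¹ * a1 * a2⁻¹) * a1 := by rw [← hz]
    _ = a1 * a2⁻¹ * a3 * a2⁻¹ * a1 * a2⁻¹ * a1 := by simp only [mul_assoc]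

end setting2

/-- If `b ∈ B` has `b, b², b³ ≠ 1` then some `1 ≠ a ∈ A` lies in the product of three conjugates of `A` different from
`A` and commuting with `A`. -/
theorem exists_mem_sup (hA : ⁅A, A⁆ = ⊥) (hB : ⁅B, B⁆ = ⊥) (hAB : IsRankOnePair A B)
    (hCB : IsRankOnePair C B) (hAC : ⁅A, C⁆ = ⊥) (hne : A ≠ C) {b : G} (hb : b ∈ B) (hb1 : b ≠ 1)
    (hb2 : b * b ≠ 1) (hb3 : b * b * b ≠ 1) :
    ∃ a ∈ A, a ≠ 1 ∧ ∃ g₁ g₂ g₃ : G, (⁅A, conjBy A g₁⁆ = ⊥ ∧ conjBy A g₁ ≠ A) ∧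
      (⁅A, conjBy A g₂⁆ = ⊥ ∧ conjBy A g₂ ≠ A) ∧ (⁅A, conjBy A g₃⁆ = ⊥ ∧ conjBy A g₃ ≠ A) ∧
      a ∈ conjBy A g₁ ⊔ conjBy A g₂ ⊔ conjBy A g₃ := by
  obtain ⟨v, hv, rfl⟩ := triangle_exists_conj hA hB hAB hCB hAC
  obtain ⟨a, ha, ha1, hab⟩ := partner_left hAB hb hb1
  -- replace `v` by `w`
  set w := ww (v * a * v⁻¹ * a⁻¹) b with hw
  have hwA : conjBy A w = conjBy A v := conjBy_ww hA hv hAC ha hb hab
  have hwB : ∀ x ∈ B, w * x = x * w := fun x hx => ww_comm hB hAB hv hAC ha hb hx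
  have hAw : ⁅A, conjBy A w⁆ = ⊥ := by rw [hwA]; exact hAC
  have hnew : conjBy A w ≠ A := by rw [hwA]; exact hne.symm
  have hwa : w * a * w⁻¹ = v * a * v⁻¹ := by
    have h1 : conjBy A (v⁻¹ * w) = A := by
      rw [← conjBy_conjBy, hwA, conjBy_conjBy, inv_mul_cancel, conjBy_one]
    have h2 : ∀ x ∈ B, (v⁻¹ * w) * x = x * (v⁻¹ * w) := by
      intro x hx
      have h3 : v⁻¹ * x = x * v⁻¹ := by
        rw [inv_mul_eq_iff_eq_mul, ← mul_assoc, hv x hx, mul_inv_cancel_right]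
      rw [mul_assoc, hwB x hx, ← mul_assoc, h3, mul_assoc]
    have h3 := centralizes_of_fix hAB h2 h1 ha
    calc w * a * w⁻¹ = v * ((v⁻¹ * w) * a * (v⁻¹ * w)⁻¹) * v⁻¹ := by simp [mul_assoc]
      _ = v * a * v⁻¹ := by rw [h3]
  have hfix : ww (w * a * w⁻¹ * a⁻¹) b = w := by rw [hwa]
  have hrel := relation hA hB hAB hwB hAw ha hb hfix
  have hw2 : ww (w * a * w⁻¹ * a⁻¹) (b * b) = w * w := by
    rw [ww_mul hB hAB hwB hAw ha hb hb, hfix]
  have hw3 : ww (w * a * w⁻¹ * a⁻¹) (b * b * b) = w * w * w := by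
    rw [ww_mul hB hAB hwB hAw ha (B.mul_mem hb hb) hb, hw2, hfix]
  refine ⟨a, ha, ha1, w, w * w, w * w * w, ⟨hAw, hnew⟩, ⟨?_, ?_⟩, ⟨?_, ?_⟩, ?_⟩
  · rw [← hw2]; exact ww_conj_comm hA hB hAB hwB hAw ha (B.mul_mem hb hb)
  · rw [← hw2]; exact conjBy_ww_ne hA hAB hwB hAw hnew ha ha1 (B.mul_mem hb hb) hb2
  · rw [← hw3]; exact ww_conj_comm hA hB hAB hwB hAw ha (B.mul_mem (B.mul_mem hb hb) hb)
  · rw [← hw3]; exact conjBy_ww_ne hA hAB hwB hAw hnew ha ha1 (B.mul_mem (B.mul_mem hb hb) hb) hb3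
  · have m1 : w * a * w⁻¹ ∈ conjBy A w ⊔ conjBy A (w * w) ⊔ conjBy A (w * w * w) :=
      Subgroup.mem_sup_left (Subgroup.mem_sup_left (conj_mem_conjBy ha w))
    have m2 : w * w * a * w⁻¹ * w⁻¹ ∈ conjBy A w ⊔ conjBy A (w * w) ⊔ conjBy A (w * w * w) := by
      refine Subgroup.mem_sup_left (Subgroup.mem_sup_right ?_)
      have := conj_mem_conjBy ha (w * w)
      simpa [mul_assoc] using this
    have m3 : w * w * w * a * w⁻¹ * w⁻¹ * w⁻¹ ∈ conjBy A w ⊔ conjBy A (w * w) ⊔ conjBy A (w * w * w) := by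
      refine Subgroup.mem_sup_right ?_
      have := conj_mem_conjBy ha (w * w * w)
      simpa [mul_assoc] using this
    rw [hrel]
    exact Subgroup.mul_mem _ (Subgroup.mul_mem _ (Subgroup.mul_mem _ (Subgroup.mul_mem _ (Subgroup.mul_mem _
      (Subgroup.mul_mem _ m1 (Subgroup.inv_mem _ m2)) m3) (Subgroup.inv_mem _ m2)) m1)
      (Subgroup.inv_mem _ m2)) m1

/-- **Triangle theorem**: `A`, `B`, `C` abelian, `(A, B)` and `(C, B)` rank one pairs, `[A, C] = 1`, `A ≠ C`; then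
`(A, B)` is special. -/
theorem triangle_special (hA : ⁅A, A⁆ = ⊥) (hB : ⁅B, B⁆ = ⊥) (hAB : IsRankOnePair A B)
    (hCB : IsRankOnePair C B) (hAC : ⁅A, C⁆ = ⊥) (hne : A ≠ C) : IsSpecialRankOnePair A B := by
  obtain ⟨v, hv, rfl⟩ := triangle_exists_conj hA hB hAB hCB hAC
  exact special_of_conj hA hB hAB hv hAC hne.symm

end Cfsg.Agent.H735
end

-- part: H735/Line
section
set_option autoImplicit false
open Cfsg Cfsg.Agent.H731 Cfsg.Agent.H733

namespace Cfsg.Agent.H735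

variable {G : Type*} [Group G] {S : Set (Subgroup G)} {A B C D E P : Subgroup G}

/-- Every member of `S` has a rank one partner. -/
def NoIsolated (S : Set (Subgroup G)) : Prop := ∀ A ∈ S, ∃ B ∈ S, IsRankOnePair A B

theorem noIsolated_iff : NoIsolated S ↔ ∀ A ∈ S, ¬ IsIsolatedIn (FAdj S) S A := by
  constructor
  · intro h A hA
    exact (not_isIsolatedIn_iff hA).2 (h A hA)
  · intro h A hA
    exact (not_isIsolatedIn_iff hA).1 (h A hA)

variable (hS : IsRootSubgroupSet S) (hNI : NoIsolated S)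
include hS hNI

/-- The key computation: `A` and `E` commute, `(A, D)` is a rank one pair, `(E, D)` is in the commutator case and some
`a e` (`a, e ≠ 1`) lies in a member; then `[A, [E, D]] = E`. -/
theorem line_aux {M : Subgroup G} (hA : A ∈ S) (hD : D ∈ S) (hE : E ∈ S) (hAD : IsRankOnePair A D)
    (hAE : ⁅A, E⁆ = ⊥) (hED : RootCommutatorCase S E D) (hM : M ∈ S) {a e : G} (ha : a ∈ A) (ha1 : a ≠ 1)
    (he : e ∈ E) (he1 : e ≠ 1) (hae : a * e ∈ M) :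
    RootCommutatorCase S A ⁅E, D⁆ ∧ ⁅A, ⁅E, D⁆⁆ = E := by
  have cAE := commutator_eq_bot_iff_forall.1 hAE
  have hP := hNI A hA
  -- (i)
  have h1 : ⁅A, ⁅E, D⁆⁆ ≠ ⊥ := by
    intro h1
    rw [commutator_eq_bot_iff_forall] at h1
    obtain ⟨d, hd, hd1⟩ := member_exists_ne_one hS hD
    have hz : e * d * e⁻¹ * d⁻¹ ∈ ⁅E, D⁆ := comm_mem he hd
    have hz1 : e * d * e⁻¹ * d⁻¹ ≠ 1 := by
      intro h2
      rw [mul_inv_eq_one, mul_inv_eq_iff_eq_mul] at h2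
      rcases rcc_commute_elem' hS hD ⟨A, hA, RankOnePair_symm hAD⟩ hED he hd h2 with h3 | h3
      · exact he1 h3
      · exact hd1 h3
    refine central_translate hS hA (RankOnePair_symm hAD) (z := e * d * e⁻¹ * d⁻¹) ?_ hz1 hd hd1
      (hS.conj_mem D hD e) ?_
    · rw [mem_centralizer_sup]
      exact ⟨fun x hx => rcc_comm_right hED hz hx, fun x hx => (h1 x hx _ hz).symm⟩
    · rw [inv_mul_cancel_right]
      exact conj_mem_conjBy hd e
  -- (ii)
  have h2 : ¬ IsRankOnePair A ⁅E, D⁆ := by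
    intro h2
    refine central_translate hS hED.1 h2 (z := e) ?_ he1 ha ha1 hM (by rw [← cAE a ha e he]; exact hae)
    rw [mem_centralizer_sup]
    exact ⟨fun x hx => (cAE x hx e he).symm, fun x hx => (rcc_comm_left hED hx he).symm⟩
  have hAF : RootCommutatorCase S A ⁅E, D⁆ := by
    rcases hS.pair A hA _ hED.1 with h3 | h3 | h3
    · exact absurd h3 h1
    · exact absurd h3 h2
    · exact h3
  refine ⟨hAF, ?_⟩
  -- (iii)
  obtain ⟨a', ha', ha1', -⟩ : ∃ a' ∈ A, a' ≠ 1 ∧ True := ⟨a, ha, ha1, trivial⟩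
  obtain ⟨d, hd, hd1, had⟩ := partner_right hAD ha' ha1'
  set F := ⁅E, D⁆ with hF
  have hf : d * e * d⁻¹ * e⁻¹ ∈ F := by
    rw [hF, Subgroup.commutator_comm]
    exact comm_mem hd he
  set f := d * e * d⁻¹ * e⁻¹ with hfdef
  have hp : a'⁻¹ * f * a' * f⁻¹ ∈ ⁅A, F⁆ := by
    have := comm_mem (A.inv_mem ha') hf
    rwa [inv_inv] at this
  set p := a'⁻¹ * f * a' * f⁻¹ with hpdef
  have hpA : ∀ x ∈ A, p * x = x * p := fun x hx => rcc_comm_left hAF hp hx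
  have hpF : ∀ x ∈ F, p * x = x * p := fun x hx => rcc_comm_right hAF hp hx
  have hfD : ∀ x ∈ D, f * x = x * f := fun x hx => rcc_comm_right hED hf hx
  have hFE : ∀ x ∈ F, ∀ y ∈ E, x * y = y * x := fun x hx y hy => rcc_comm_left hED hx hy
  -- `p e` commutes with `D`
  have hzD : ∀ x ∈ D, (p * e) * x = x * (p * e) := by
    intro x hx
    have h3 : conjBy D a' = conjBy A d := had.symm
    have h4 : a' * x * a'⁻¹ ∈ conjBy A d := by rw [← h3]; exact conj_mem_conjBy hx a'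
    have h5 : ∀ y ∈ conjBy A d, (d * e * d⁻¹) * y = y * (d * e * d⁻¹) := by
      rintro _ ⟨y, hy, rfl⟩
      show (d * e * d⁻¹) * (d * y * d⁻¹) = (d * y * d⁻¹) * (d * e * d⁻¹)
      have h6 := cAE y hy e he
      calc (d * e * d⁻¹) * (d * y * d⁻¹) = d * (e * y) * d⁻¹ := by simp [mul_assoc]
        _ = d * (y * e) * d⁻¹ := by rw [h6]
        _ = (d * y * d⁻¹) * (d * e * d⁻¹) := by simp [mul_assoc]
    have h6 := h5 _ h4
    -- `a'⁻¹ (d e d⁻¹) a' = p f e`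
    have h7 : a'⁻¹ * (d * e * d⁻¹) * a' = f * (p * e) := by
      have h8 : e * a' = a' * e := (cAE a' ha' e he).symm
      calc a'⁻¹ * (d * e * d⁻¹) * a' = a'⁻¹ * f * (e * a') := by rw [hfdef]; simp [mul_assoc]
        _ = a'⁻¹ * f * (a' * e) := by rw [h8]
        _ = (p * f) * e := by rw [hpdef]; simp [mul_assoc]
        _ = f * (p * e) := by rw [hpF f hf, mul_assoc]
    have h8 : (a'⁻¹ * (d * e * d⁻¹) * a') * x = x * (a'⁻¹ * (d * e * d⁻¹) * a') := by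
      calc (a'⁻¹ * (d * e * d⁻¹) * a') * x = a'⁻¹ * ((d * e * d⁻¹) * (a' * x * a'⁻¹)) * a' := by simp [mul_assoc]
        _ = a'⁻¹ * ((a' * x * a'⁻¹) * (d * e * d⁻¹)) * a' := by rw [h6]
        _ = x * (a'⁻¹ * (d * e * d⁻¹) * a') := by simp [mul_assoc]
    rw [h7] at h8
    have h9 : f * ((p * e) * x) = f * (x * (p * e)) := by
      rw [← mul_assoc, h8, ← mul_assoc f x, hfD x hx, mul_assoc x f]
    exact mul_left_cancel h9
  have hz : p * e ∈ Subgroup.centralizer ((A ⊔ D : Subgroup G) : Set G) := by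
    rw [mem_centralizer_sup]
    refine ⟨fun x hx => ?_, hzD⟩
    rw [mul_assoc, ← cAE x hx e he, ← mul_assoc, hpA x hx, mul_assoc]
  obtain ⟨f', hf', hmem⟩ := mul_mem_conjBy hAF ha ha1 (Subgroup.inv_mem _ hp)
  rw [mem_conjBy] at hmem
  have hz1 : p * e = 1 := by
    by_contra hz1
    refine central_translate hS hD hAD hz hz1 hmem ?_ (hS.conj_mem M hM f'⁻¹) ?_
    · intro h3
      have h4 : a * p⁻¹ = 1 := by
        have : a * p⁻¹ = f' * (f'⁻¹ * (a * p⁻¹) * f') * f'⁻¹ := by simp [mul_assoc]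
        rw [this, h3]; simp
      have h5 : a ∈ A ⊓ ⁅A, F⁆ := ⟨ha, by rw [mul_inv_eq_one.1 h4]; exact hp⟩
      rw [rcc_inf_commutator hS hA hP hAF] at h5
      exact ha1 (Subgroup.mem_bot.1 h5)
    · rw [mem_conjBy_inv]
      have h3 : (p * e) * f'⁻¹ = f'⁻¹ * (p * e) := by
        rw [mul_assoc, ← hFE _ (F.inv_mem hf') e he, ← mul_assoc, hpF _ (F.inv_mem hf'), mul_assoc]
      have h4 : f' * (p * e * (f'⁻¹ * (a * p⁻¹) * f')) * f'⁻¹ = a * e := by
        have h5 : a * p⁻¹ = p⁻¹ * a := by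
          rw [eq_inv_mul_iff_mul_eq, ← mul_assoc, hpA a ha, mul_inv_cancel_right]
        calc f' * (p * e * (f'⁻¹ * (a * p⁻¹) * f')) * f'⁻¹ = f' * ((p * e) * f'⁻¹) * (a * p⁻¹) := by
              simp [mul_assoc]
          _ = (p * e) * (a * p⁻¹) := by rw [h3]; simp [mul_assoc]
          _ = p * (e * (p⁻¹ * a)) := by rw [h5, mul_assoc]
          _ = p * e * p⁻¹ * a := by simp [mul_assoc]
          _ = a * e := by
            have h6 : e * p⁻¹ = p⁻¹ * e := by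
              have h7 : ∀ y ∈ ⁅A, F⁆, e * y = y * e := by
                have h8 : ⁅A, F⁆ ≤ Subgroup.centralizer ({e} : Set G) := by
                  rw [Subgroup.commutator_le]
                  intro x hx y hy
                  rw [commutatorElement_def, Subgroup.mem_centralizer_iff]
                  intro w hw
                  rw [Set.mem_singleton_iff] at hw
                  rw [hw]
                  have c1 : Commute e x := (cAE x hx e he).symm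
                  have c2 : Commute e y := (hFE y hy e he).symm
                  exact ((c1.mul_right c2).mul_right c1.inv_right).mul_right c2.inv_right
                intro y hy
                exact Subgroup.mem_centralizer_iff.1 (h8 hy) e rfl
              exact h7 _ (Subgroup.inv_mem _ hp)
            rw [mul_assoc p, h6, mul_inv_cancel_left, cAE a ha e he]
      rw [h4]
      exact hae
  obtain ⟨E', hE', hEE'⟩ := hNI E hE
  refine (eq_of_mem_mem hS hE hE' hEE' hAF.1 he he1 ?_).symm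
  rw [← inv_inv e, ← eq_inv_of_mul_eq_one_left hz1]
  exact Subgroup.inv_mem _ hp

omit hNI in
theorem line_comm (hB : B ∈ linePartners S A) (hA : A ∈ S) : ⁅A ⊔ B, A ⊔ B⁆ = ⊥ := by
  have h1 := member_commutator_self hS hA
  have h2 := member_commutator_self hS hB.1.1
  have h3 := hB.1.2.2
  exact comm_sup (comm_sup' h1 (by rw [Subgroup.commutator_comm]; exact h3)) (comm_sup' h3 h2)

theorem line_exists_mem (hB : B ∈ linePartners S A) (hA : A ∈ S) (hE : E ∈ S) (hEl : E ≤ A ⊔ B) (hne : E ≠ A)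
    {a e : G} (ha : a ∈ A) (ha1 : a ≠ 1) (he : e ∈ E) : ∃ M ∈ membersIn S (A ⊔ B), a * e ∈ M := by
  refine hB.2.2.1 (a * e) (Subgroup.mul_mem _ (Subgroup.mem_sup_left ha) (hEl he)) ?_
  intro h1
  obtain ⟨A', hA', hAA'⟩ := hNI A hA
  apply hne
  refine (eq_of_mem_mem hS hA hA' hAA' hE ha ha1 ?_).symm
  rw [eq_inv_of_mul_eq_one_left h1]
  exact E.inv_mem he

/-- **Special point of a line**: for a rank one pair `(A, D)` and a line `AB` there is a point `P ≠ A` of the line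
with `F = [P, D]` a member, `[A, F] = P` and `AB = AP`. -/
theorem line_point (hA : A ∈ S) (hD : D ∈ S) (hAD : IsRankOnePair A D) (hB : B ∈ linePartners S A) :
    ∃ P ∈ membersIn S (A ⊔ B), P ≠ A ∧ RootCommutatorCase S P D ∧ RootCommutatorCase S A ⁅P, D⁆ ∧
      ⁅A, ⁅P, D⁆⁆ = P ∧ A ⊔ B = A ⊔ P := by
  have cL := commutator_eq_bot_iff_forall.1 (line_comm hS hB hA)
  -- no point of the line commutes with `D`
  have hno : ∀ E ∈ membersIn S (A ⊔ B), E ≠ A → ⁅E, D⁆ ≠ ⊥ := by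
    rintro E ⟨hE, hEl⟩ hne h1
    rw [commutator_eq_bot_iff_forall] at h1
    obtain ⟨a, ha, ha1⟩ := member_exists_ne_one hS hA
    obtain ⟨e, he, he1⟩ := member_exists_ne_one hS hE
    obtain ⟨M, hM, hM'⟩ := line_exists_mem hS hNI hB hA hE hEl hne ha ha1 he
    have h2 := cL a (Subgroup.mem_sup_left ha) e (hEl he)
    rw [h2] at hM'
    refine central_translate hS hD hAD (z := e) ?_ he1 ha ha1 hM.1 hM'
    rw [mem_centralizer_sup]
    exact ⟨fun x hx => (cL x (Subgroup.mem_sup_left hx) e (hEl he)).symm, fun x hx => h1 e he x hx⟩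
  have haux : ∀ E ∈ membersIn S (A ⊔ B), E ≠ A → RootCommutatorCase S E D →
      RootCommutatorCase S A ⁅E, D⁆ ∧ ⁅A, ⁅E, D⁆⁆ = E := by
    rintro E ⟨hE, hEl⟩ hne h1
    obtain ⟨a, ha, ha1⟩ := member_exists_ne_one hS hA
    obtain ⟨e, he, he1⟩ := member_exists_ne_one hS hE
    obtain ⟨M, hM, hM'⟩ := line_exists_mem hS hNI hB hA hE hEl hne ha ha1 he
    refine line_aux hS hNI hA hD hE hAD ?_ h1 hM.1 ha ha1 he he1 hM'
    rw [commutator_eq_bot_iff_forall]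
    exact fun x hx y hy => cL x (Subgroup.mem_sup_left hx) y (hEl hy)
  have hBS := hB.1.1
  have hBne := hB.1.2.1
  have hBm : B ∈ membersIn S (A ⊔ B) := ⟨hBS, le_sup_right⟩
  rcases hS.pair B hBS D hD with h1 | h1 | h1
  · exact absurd h1 (hno B hBm hBne)
  · -- `(B, D)` a rank one pair
    obtain ⟨d, hd, hd1⟩ := member_exists_ne_one hS hD
    obtain ⟨a, ha, ha1, had⟩ := partner_left hAD hd hd1
    obtain ⟨b, hb, hb1, hbd⟩ := partner_left h1 hd hd1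
    have h2 : ⁅D, conjBy D (a⁻¹ * b)⁆ = ⊥ := by
      have h3 : ⁅conjBy A d, conjBy B d⁆ = ⊥ := commutator_conjBy_eq_bot_iff.2 hB.1.2.2
      have h4 : conjBy D b = conjBy (conjBy D (a⁻¹ * b)) a := by rw [conjBy_conjBy, mul_inv_cancel_left]
      rw [had, hbd, h4] at h3
      exact commutator_conjBy_eq_bot_iff.1 h3
    have hab1 : a⁻¹ * b ≠ 1 := by
      intro h3
      apply hBne
      refine eq_of_mem_mem hS hBS hD h1 hA hb hb1 ?_
      rw [← inv_mul_eq_one.1 h3]; exact ha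
    obtain ⟨E, hE, hEab⟩ := hB.2.2.1 (a⁻¹ * b)
      (Subgroup.mul_mem _ (Subgroup.mem_sup_left (A.inv_mem ha)) (Subgroup.mem_sup_right hb)) hab1
    have hEne : E ≠ A := by
      rintro rfl
      apply hBne
      refine eq_of_mem_mem hS hBS hD h1 hA hb hb1 ?_
      have := E.mul_mem ha hEab
      simpa using this
    have hED : RootCommutatorCase S E D := by
      rcases hS.pair E hE.1 D hD with h3 | h3 | h3
      · exact absurd h3 (hno E hE hEne)
      · exfalso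
        have h4 := RankOnePair_symm h3
        have h5 : conjBy D (a⁻¹ * b) ∈ unipotentSubgroups D E :=
          conjBy_mem_unipotentSubgroups (left_mem_unipotentSubgroups D E) (Subgroup.mem_sup_right hEab)
        have h6 : D ≠ conjBy D (a⁻¹ * b) := fun h7 => hab1 (rankOne_eq_one h3 hEab h7.symm)
        exact rankOne_not_commute (rankOne_pair_of_mem h4 (left_mem_unipotentSubgroups D E) h5 h6) h2
      · exact h3
    obtain ⟨h3, h4⟩ := haux E hE hEne hED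
    refine ⟨E, hE, hEne, hED, h3, h4, ?_⟩
    apply le_antisymm
    · refine sup_le le_sup_left ?_
      have hpart := rcc_partition hS hA (hNI A hA) h3
      rw [h4] at hpart
      have hbm : b ∈ A ⊔ E := by
        have h5 : b = a * (a⁻¹ * b) := by rw [mul_inv_cancel_left]
        rw [h5]
        exact Subgroup.mul_mem_sup ha hEab
      obtain ⟨E', hE', hbE'⟩ := hpart.2.1 b hbm hb1
      rw [eq_of_mem_mem hS hBS hD h1 hE'.1 hb hb1 hbE']
      exact hE'.2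
    · exact sup_le le_sup_left hE.2
  · obtain ⟨h2, h3⟩ := haux B hBm hBne h1
    exact ⟨B, hBm, hBne, h1, h2, h3, rfl⟩

/-- The points of the line different from the special point are rank one partners of `D` and conjugate to `A` by an
element of `[P, D]`. -/
theorem line_other (hA : A ∈ S) (hAD : IsRankOnePair A D) (hPD : RootCommutatorCase S P D)
    (hAF : RootCommutatorCase S A ⁅P, D⁆) (hAP : ⁅A, ⁅P, D⁆⁆ = P) (hE : E ∈ membersIn S (A ⊔ P)) (hne : E ≠ P) :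
    (∃ f ∈ ⁅P, D⁆, E = conjBy A f) ∧ IsRankOnePair E D := by
  have h1 := rcc_membersIn hS hA (hNI A hA) hAF
  rw [hAP] at h1
  rw [h1] at hE
  rcases hE with ⟨f, hf, rfl⟩ | hE
  · refine ⟨⟨f, hf, rfl⟩, ?_⟩
    have h2 : conjBy D f = D := conjBy_of_commute fun x hx => rcc_comm_right hPD hf hx
    have h3 := IsRankOnePair_conj hAD f
    rwa [h2] at h3
  · exact absurd hE hne

end Cfsg.Agent.H735
end
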